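import Cfsg.Agent.Lib.Compute.AutOut
import Cfsg.Agent.Lib.Golay.Mathieu

/-! Transfer of the outer automorphism count from a coded group to a Mathieu group. -/

set_option autoImplicit false

namespace Cfsg.Agent.MathieuOut

open Cfsg Cfsg.Agent.PermCert Cfsg.Agent.PermAut Cfsg.Agent.Golay

theorem card_out_congr {A B : Type*} [Group A] [Group B] (e : A ≃* B) :
    Nat.card (Out A) = Nat.card (Out B) := by
  have hI : Inn A = (Inn B).comap (MulAut.congr e).toMonoidHom := by
    ext φ
    constructor
    · rintro ⟨g, rfl⟩
      exact ⟨e g, MulEquiv.ext fun a => by simp [MulAut.congr]⟩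
    · rintro ⟨g, hg⟩
      refine ⟨e.symm g, MulEquiv.ext fun a => ?_⟩
      have h := DFunLike.congr_fun hg (e a)
      simp [MulAut.congr] at h
      apply e.injective
      simp [h]
  show Nat.card (MulAut A ⧸ Inn A) = Nat.card (MulAut B ⧸ Inn B)
  rw [← Subgroup.index_eq_card, ← Subgroup.index_eq_card, hI,
    Subgroup.index_comap_of_surjective _ (MulAut.congr e).surjective]

/-- The certificate group is a copy of the stabiliser. -/
theorem nonempty_equiv {d : AutData} (hc : checkCert 5 24 d.gens d.derived d.levels = true)
    {inv : List ℕ} {gens : List Elt} {derived : List (Elt × List ℕ)} {levels : List CLevel}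
    {oss : List (List ℕ)} {rig : List (ℕ × List ℕ)} (h : stabCertOK inv gens derived levels oss rig = true)
    (hs : d.gens.all (fun g => validElt 5 24 g && sift 5 24 levels g.1) = true)
    (ho : certOrder levels ≤ certOrder d.levels) {M : Subgroup (Equiv.Perm GolayPt)} (hM : M = stabIn inv) :
    Nonempty (grp 5 24 d ≃* M) := by
  have hcert : checkCert 5 24 gens derived levels = true := by
    simp only [stabCertOK, Bool.and_eq_true] at h
    exact h.1.1.1
  have he : grp 5 24 d = genGroup 5 24 gens := by
    refine Subgroup.eq_of_le_of_card_ge ?_ ?_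
    · refine (Subgroup.closure_le _).2 fun σ hσ => ?_
      obtain ⟨g, hg, rfl⟩ := List.mem_map.1 hσ
      simp only [List.all_eq_true, Bool.and_eq_true] at hs
      exact cert_mem hcert (hs g hg).1 (hs g hg).2
    · rw [cert_card hcert, cert_card hc]
      exact ho
  exact ⟨(MulEquiv.subgroupCongr he).trans (((genGroup 5 24 gens).equivMapOfInjective phi.toMonoidHom
    phi.injective).trans (MulEquiv.subgroupCongr ((stabCert_spec h).1.trans hM.symm)))⟩

/-- A covering of a range from one interval. -/
theorem cover_one {N : ℕ} {f : ℕ → ℕ → Bool} (h : f 0 N = true) :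
    ∀ k < N, ∃ lo hi, lo ≤ k ∧ k < hi ∧ f lo hi = true := fun _ hk => ⟨0, N, Nat.zero_le _, hk, h⟩

end Cfsg.Agent.MathieuOut
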