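import Cfsg.Agent.Lib.MathieuOut.M22Data

/-! Kernel checks of the automorphism certificate for the Mathieu group of degree 22. -/

set_option autoImplicit false

namespace Cfsg.Agent.MathieuOut

open Cfsg.Agent.PermCert Cfsg.Agent.PermAut

theorem m22_closure0 : closureOK 5 24 m22Aut 0 231 = true := by decide +kernel

theorem m22_classify0 : classifyOK 5 24 m22Aut true 0 231 = true := by decide +kernel

end Cfsg.Agent.MathieuOut
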