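import Cfsg.Agent.Lib.MathieuOut.M24Data

/-! Kernel checks of the automorphism certificate for the Mathieu group of degree 24. -/

set_option autoImplicit false

namespace Cfsg.Agent.MathieuOut

open Cfsg.Agent.PermCert Cfsg.Agent.PermAut

theorem m24_cert : checkCert 5 24 m24Aut.gens m24Aut.derived m24Aut.levels = true := by decide +kernel

theorem m24_base : baseOK 5 24 m24Aut = true := by decide +kernel

theorem m24_scert : checkCert 5 24 m24Aut.sGens m24Aut.sDerived m24Aut.sLevels = true := by decide +kernel

theorem m24_sylow : sylowOK 5 24 m24Aut = true := by decide +kernel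

end Cfsg.Agent.MathieuOut
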