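import Cfsg.Agent.Lib.MathieuOut.M12Data

/-! Kernel checks of the automorphism certificate for the Mathieu group of degree 12. -/

set_option autoImplicit false

namespace Cfsg.Agent.MathieuOut

open Cfsg.Agent.PermCert Cfsg.Agent.PermAut

theorem m12_cert : checkCert 5 24 m12Aut.gens m12Aut.derived m12Aut.levels = true := by decide +kernel

theorem m12_base : baseOK 5 24 m12Aut = true := by decide +kernel

theorem m12_scert : checkCert 5 24 m12Aut.sGens m12Aut.sDerived m12Aut.sLevels = true := by decide +kernel

theorem m12_sylow : sylowOK 5 24 m12Aut = true := by decide +kernel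

theorem m12_sigma : sigmaOK 5 24 m12Aut = true := by decide +kernel

theorem m12_noElt : noElt 5 24 m12Aut m12Aut.levels [] [] = true := by decide +kernel

end Cfsg.Agent.MathieuOut
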