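import Cfsg.Agent.Lib.MathieuOut.M12Data

/-! Kernel checks of the automorphism certificate for the Mathieu group of degree 12. -/

set_option autoImplicit false

namespace Cfsg.Agent.MathieuOut

open Cfsg.Agent.PermCert Cfsg.Agent.PermAut

theorem m12_closure0 : closureOK 5 24 m12Aut 0 179 = true := by decide +kernel

theorem m12_classify0 : classifyOK 5 24 m12Aut true 0 179 = true := by decide +kernel

end Cfsg.Agent.MathieuOut
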