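import Cfsg.Agent.Lib.MathieuOut.M23Data

/-! Kernel checks of the automorphism certificate for the Mathieu group of degree 23. -/

set_option autoImplicit false

namespace Cfsg.Agent.MathieuOut

open Cfsg.Agent.PermCert Cfsg.Agent.PermAut

theorem m23_closure0 : closureOK 5 24 m23Aut 0 759 = true := by decide +kernel

theorem m23_classify0 : classifyOK 5 24 m23Aut false 0 759 = true := by decide +kernel

end Cfsg.Agent.MathieuOut
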